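import Cfsg.Agent.H733.Eight.Asm
import Cfsg.Agent.S0252
import Cfsg.Agent.S0253
import Cfsg.Agent.S0254
import Cfsg.Agent.S0255
import Cfsg.Agent.H488.Eight.Psl2
import Cfsg.Agent.H588.Eight.Sz
import Cfsg.Agent.H175.Eight.L3
import Cfsg.Agent.H175.Eight.J1
import Cfsg.Agent.H175.Eight.Mathieu
import Cfsg.Agent.H600.EightA7

/-!
# S4899 : the small isomorphisms and the exact rows
-/

set_option autoImplicit false

open Cfsg Cfsg.Agent.H664.Eight

namespace Cfsg.Agent.H733.Eight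

universe u

theorem isos : Isos.{u} where
  a5 _ _ _ h := S0252.result h
  a5' _ _ _ h := S0253.result h
  a6 _ _ _ h := S0254.result h
  l32 _ _ _ _ _ _ h h' := S0255.result h h'
  sz _ _ _ _ h := H588.Eight.isSuzuki_of_iso h
  m11 _ _ _ _ h := H588.Eight.isM11_of_iso h
  j1 _ _ _ _ h := H588.Eight.isJ1_of_iso h

theorem exact_ : Exact.{u} where
  l2even _ _ _ h2 h4 := H488.Eight.Psl2.ncard_even h2 h4
  l2odd _ _ _ h2 h5 := H488.Eight.Psl2.ncard_odd h2 h5
  l33 := H175.Eight.l33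
  l34 _ _ _ h := H175.Eight.l34 h
  sz _ _ _ _ h := H588.Eight.ncard_sz h
  a7 := H600.EightAlt.a7
  m11 _ _ _ _ h := H175.Eight.m11 (H588.Eight.isM11_of_iso h)
  j1 _ _ _ _ h := H175.Eight.j1 h

end Cfsg.Agent.H733.Eight
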