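import Cfsg.Agent.H733.Eight.Asm
import Cfsg.Agent.H600.EightSeven
import Cfsg.Agent.H117.Eight.L3
import Cfsg.Agent.H289.Eight.LinMain
import Cfsg.Agent.H664.Eight.U3
import Cfsg.Agent.H934.Eight.U4
import Cfsg.Agent.H561.Eight.SmallU
import Cfsg.Agent.H272.Eight.SpFour
import Cfsg.Agent.H539.Eight.Odd

/-!
# S4899 : the classical rows
-/

set_option autoImplicit false

open Cfsg Cfsg.Agent.H664.Eight

namespace Cfsg.Agent.H733.Eight

theorem classical_of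
    (un : ∀ (F : Type) [Field F] [Fintype F] (n q : ℕ), Fintype.card F = q ^ 2 → 5 ≤ n → ¬ (n = 5 ∧ q = 2) →
      ¬ (n = 6 ∧ q = 2) → ¬ (n = 7 ∧ q = 2) → Eight (PSU n F q))
    (sp : ∀ (F : Type) [Field F] [Fintype F] (m : ℕ), 3 ≤ m → Eight (PSp m F))
    (op : ∀ (F : Type) [Field F] [Fintype F] (m : ℕ), 4 ≤ m → Eight (POmega F (quadFormPlus m F)))
    (om : ∀ (F : Type) [Field F] [Fintype F] (m : ℕ) (a b : F), 4 ≤ m →
      (∀ z₁ z₂ : F, z₁ ^ 2 + a * z₁ * z₂ + b * z₂ ^ 2 = 0 → z₁ = 0 ∧ z₂ = 0) →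
      Eight (POmega F (quadFormMinus (m - 1) F a b))) : Classical where
  alt _ h := H600.EightAlt.eight_alt h
  l3 _ _ _ h := H117.Eight.L3.eight_l3 h
  ln _ _ _ _ h := H289.Eight.eight_ln h
  u3 _ _ _ _ hF hq := eight_u3 hF hq (MulEquiv.refl _)
  u4 _ _ _ _ hF hq := H934.Eight.eight_u4 hF hq
  un := un
  u42 _ _ _ h := H561.Eight.eight_u42 h
  u52 _ _ _ h := H561.Eight.eight_u52 h
  u62 _ _ _ h := H561.Eight.eight_u62 h
  u72 _ _ _ h := H561.Eight.eight_u72 h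
  sp43 _ _ _ h := H561.Eight.eight_sp43 h
  sp4 F _ _ h := H272.Eight.eight_sp4 F (by rwa [Nat.card_eq_fintype_card])
  sp := sp
  oo _ _ _ _ hm ho := H539.Eight.eight_oo ho hm
  op := op
  om := om

end Cfsg.Agent.H733.Eight
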