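import Cfsg.Agent.H733.Eight.FillB
import Cfsg.Agent.H7.Eight.UnMain
import Cfsg.Agent.H362.Eight.SpRow
import Cfsg.Agent.H688.Eight.Sp62
import Cfsg.Agent.H925.Eight.PlusAll
import Cfsg.Agent.H234.Eight.OmSmall
import Cfsg.Agent.H532.Eight.Small82

/-!
# S4899 : the classical rows, complete
-/

set_option autoImplicit false

open Cfsg Cfsg.Agent.H664.Eight

namespace Cfsg.Agent.H733.Eight

theorem classical : Classical := by
  refine classical_of ?_ ?_ ?_ ?_
  · intro F _ _ n q hF hn h5 h6 h7
    by_cases h : 8 ≤ n ∨ 3 ≤ q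
    · exact H7.Eight.UnMain.eight_un hF hn h
    · exfalso
      push Not at h
      have hq : 2 ≤ q := by
        by_contra hlt
        have h1 : q ^ 2 ≤ 1 ^ 2 := Nat.pow_le_pow_left (by omega) 2
        have h2 := Fintype.one_lt_card (α := F)
        omega
      omega
  · intro F _ _ m hm
    by_cases h : m = 3 ∧ Nat.card F = 2
    · obtain ⟨rfl, h2⟩ := h
      exact H688.Eight.eight_sp62 (by rw [← Nat.card_eq_fintype_card]; exact h2)
    · exact H362.Eight.eight_sp' F hm h
  · intro F _ _ m hm
    exact H925.Eight.eight_op hm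
  · intro F _ _ m a b hm hab
    obtain ⟨l, rfl⟩ : ∃ l, m = l + 1 := ⟨m - 1, by omega⟩
    rw [Nat.add_sub_cancel]
    have hq : 1 < Nat.card F := Finite.one_lt_card
    by_cases h : 4 ≤ l ∨ 4 ≤ Nat.card F
    · exact H234.Eight.eight_ne F a b hab (by omega) h
    · push Not at h
      obtain rfl : l = 3 := by omega
      by_cases h2 : Nat.card F = 2
      · exact H532.Eight.eight_om82 (by rw [← Nat.card_eq_fintype_card]; exact h2) a b hab
      · exact H234.Eight.eight_om83 F a b hab (by omega)

end Cfsg.Agent.H733.Eight
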