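import Cfsg.Agent.H733.Eight.Asm
import Cfsg.Agent.H83.Eight.TwD4
import Cfsg.Agent.H315.EightRee
import Cfsg.Agent.H740.Eight.F4
import Cfsg.Agent.H740.Eight.Tits

/-!
# S4899 : the exceptional rows
-/

set_option autoImplicit false

open Cfsg Cfsg.Agent.H664.Eight

namespace Cfsg.Agent.H733.Eight

universe u

theorem exceptional_of (g2 : Row.{u} (fun S _ => Lie.IsoChevG2 S)) (f4 : Row.{u} (fun S _ => Lie.IsoF4 S))
    (e6 : Row.{u} (fun S _ => Lie.IsoChevE6 S)) (e7 : Row.{u} (fun S _ => Lie.IsoE7 S))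
    (e8 : Row.{u} (fun S _ => Lie.IsoE8 S)) (twE6 : Row.{u} (fun S _ => Lie.Iso2E6 S)) : Exceptional.{u} where
  g2 := g2
  f4 := f4
  e6 := e6
  e7 := e7
  e8 := e8
  twE6 := twE6
  d4 _ _ _ _ h := H83.Eight.TwD4.eight_d4 h
  ree _ _ _ _ h := H315.EightRee.eight_ree h
  twF4 _ _ _ _ h := H740.Eight.F4.eight_tf4 h
  tits _ _ _ _ h := H740.Eight.Tits.eight_tits h

end Cfsg.Agent.H733.Eight
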