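import Cfsg.Agent.H733.Eight.FillC
import Cfsg.Agent.H954.DR.RowG23
import Cfsg.Agent.H996.Eight.Rows
import Cfsg.Agent.H996.Eight.RowTwE6

/-!
# S4899 : the exceptional rows, complete
-/

set_option autoImplicit false

open Cfsg Cfsg.Agent.H664.Eight

namespace Cfsg.Agent.H733.Eight

universe u

theorem exceptional : Exceptional.{u} :=
  exceptional_of (fun _ _ _ _ h => H954.DR.RowG2.eight_G2 h) (fun _ _ _ _ h => H996.Eight.Rows.eight_F4 h)
    (fun _ _ _ _ h => H996.Eight.Rows.eight_E6 h) (fun _ _ _ _ h => H996.Eight.Rows.eight_E7 h)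
    (fun _ _ _ _ h => H996.Eight.Rows.eight_E8 h) (fun _ _ _ _ h => H996.Eight.Rows.eight_TwE6 h)

end Cfsg.Agent.H733.Eight
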